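import Groth.Agent.Lib.FlatCx.Misc
import Groth.Agent.Lib.FlatCx.Bc
import Groth.Agent.Lib.FlatCx.Local
import Mathlib.RingTheory.Regular.RegularSequence
import Mathlib.RingTheory.Jacobson.Ring

/-!
# Depth kills the low homology of a complex with homology supported at one point
-/

set_option autoImplicit false
set_option linter.all false
set_option backward.isDefEq.respectTransparency false
universe u

open CategoryTheory CategoryTheory.Limits TensorProduct

namespace GrothLib.DepthVanish

variable {A : Type u} [CommRing A] {ι : Type} {c : ComplexShape ι}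
  (P : HomologicalComplex (ModuleCat.{u} A) c)

/-- A class is killed off a maximal ideal where the fibre has no homology. -/
theorem exists_smul_eq_zero (i : ι) [Module.Finite A (P.X i)] [Module.Finite A (P.X (c.next i))]
    [Module.Flat A (P.X (c.next i))] (p : Ideal A) [hp : p.IsMaximal]
    (h : CohIII.dRank P i ⟨p, hp.isPrime⟩ = 0) (M : Type u) [AddCommGroup M] [Module A M]
    (z : FlatCx.cokIn P i ⊗[A] M) (hz : (FlatCx.dBar P i).rTensor M z = 0) :
    ∃ s, s ∉ p ∧ s • z = 0 := by
  set δ := FlatCx.dBar P i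
  let R := Localization.AtPrime p
  let κ := p.ResidueField
  haveI : Module.Flat R (R ⊗[A] P.X (c.next i)) := inferInstance
  haveI : Module.Free R (R ⊗[A] P.X (c.next i)) := Module.free_of_flat_of_isLocalRing
  have hκ : Function.Injective (δ.baseChange κ) := by
    rw [← LinearMap.ker_eq_bot]
    obtain ⟨e⟩ := FlatCx.nonempty_homology_bcCx_equiv P (B := κ) i
    have h0 : Module.finrank κ (LinearMap.ker (δ.baseChange κ)) = 0 := by rw [← e.finrank_eq]; exact h
    exact Submodule.finrank_eq_zero.1 h0
  have hres : Function.Injective ((δ.baseChange R).lTensor (IsLocalRing.ResidueField R)) := by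
    have hsq : (AlgebraTensorModule.cancelBaseChange A R κ κ (P.X (c.next i))).toLinearMap ∘ₗ
        AlgebraTensorModule.lTensor κ κ (δ.baseChange R) =
        (δ.baseChange κ) ∘ₗ (AlgebraTensorModule.cancelBaseChange A R κ κ _).toLinearMap := by
      ext w
      simp
    intro a b hab
    apply (AlgebraTensorModule.cancelBaseChange A R κ κ _).injective
    apply hκ
    have h1 := LinearMap.congr_fun hsq a
    have h2 := LinearMap.congr_fun hsq b
    simp only [LinearMap.comp_apply, LinearEquiv.coe_coe] at h1 h2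
    rw [← h1, ← h2]
    exact congrArg _ hab
  obtain ⟨l, hl⟩ := (IsLocalRing.split_injective_iff_lTensor_residueField_injective (δ.baseChange R)).2 hres
  have hinj : Function.Injective ((δ.rTensor M).lTensor R) := by
    let lA : R ⊗[A] P.X (c.next i) →ₗ[A] R ⊗[A] _ := l.restrictScalars A
    have hlA : lA ∘ₗ δ.lTensor R = LinearMap.id := LinearMap.ext fun w => LinearMap.congr_fun hl w
    have hsq : (TensorProduct.assoc A R _ M).toLinearMap ∘ₗ (δ.lTensor R).rTensor M =
        (δ.rTensor M).lTensor R ∘ₗ (TensorProduct.assoc A R _ M).toLinearMap :=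
      TensorProduct.ext_threefold fun r w m => rfl
    intro a b hab
    obtain ⟨a, rfl⟩ := (TensorProduct.assoc A R _ M).surjective a
    obtain ⟨b, rfl⟩ := (TensorProduct.assoc A R _ M).surjective b
    have h1 := (LinearMap.congr_fun hsq a).trans (hab.trans (LinearMap.congr_fun hsq b).symm)
    have h2 := congrArg (lA.rTensor M) ((TensorProduct.assoc A R _ M).injective h1)
    rw [← LinearMap.rTensor_comp_apply, ← LinearMap.rTensor_comp_apply, hlA, LinearMap.rTensor_id] at h2
    exact congrArg _ h2
  have h1 : (TensorProduct.mk A R _ 1) z = 0 := by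
    refine hinj ?_
    show (δ.rTensor M).lTensor R ((1 : R) ⊗ₜ[A] z) = _
    rw [LinearMap.lTensor_tmul, hz, TensorProduct.tmul_zero, map_zero]
  haveI : IsLocalizedModule p.primeCompl (TensorProduct.mk A R (FlatCx.cokIn P i ⊗[A] M) 1) :=
    inferInstance
  obtain ⟨s, hs⟩ := (IsLocalizedModule.eq_zero_iff p.primeCompl _).1 h1
  exact ⟨s.1, s.2, hs⟩

/-- The short exact sequence of a nonzerodivisor, at the level of `d̄`. -/
theorem injective_step {i j : ι} (hij : c.next i = j) (hji : c.prev j = i) [∀ l, Module.Flat A (P.X l)]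
    (N : Type u) [AddCommGroup N] [Module A N] (r : A) (hr : IsSMulRegular N r)
    (hN' : Function.Injective ((FlatCx.dBar P i).rTensor (QuotSMulTop r N)))
    (z : FlatCx.cokIn P j ⊗[A] N) (hz : (FlatCx.dBar P j).rTensor N z = 0) (hrz : r • z = 0) : z = 0 := by
  let π' := (LinearMap.range (P.d (c.prev i) i).hom).mkQ
  have hN'' : ∀ y, FlatCx.dT P i j (QuotSMulTop r N) y = 0 → π'.rTensor (QuotSMulTop r N) y = 0 := by
    subst hij
    intro y hy
    refine hN' ?_
    rw [map_zero, ← LinearMap.rTensor_comp_apply, FlatCx.dBar_mkQ]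
    exact hy
  subst hji
  set π := (LinearMap.range (P.d (c.prev j) j).hom).mkQ with hπ
  obtain ⟨z, rfl⟩ := LinearMap.rTensor_surjective N (g := π) (Submodule.mkQ_surjective _) z
  have hex : Function.Exact (FlatCx.dT P (c.prev j) j N) (π.rTensor N) :=
    rTensor_exact N (LinearMap.exact_map_mkQ_range _) (Submodule.mkQ_surjective _)
  rw [← map_smul] at hrz
  obtain ⟨w, hw⟩ := (hex _).1 hrz
  let q : N →ₗ[A] QuotSMulTop r N := Submodule.mkQ _
  -- modulo `r` the chain `w` is a cycle
  have hex' : Function.Exact (FlatCx.dT P (c.prev (c.prev j)) (c.prev j) (QuotSMulTop r N)) (π'.rTensor (QuotSMulTop r N)) :=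
    rTensor_exact _ (LinearMap.exact_map_mkQ_range _) (Submodule.mkQ_surjective _)
  have hcomp : ∀ {l m : ι} (y : TensorProduct A (P.X l) N),
      q.lTensor (P.X m) (FlatCx.dT P l m N y) = FlatCx.dT P l m (QuotSMulTop r N) (q.lTensor (P.X l) y) :=
    fun y => FlatCx.rTensor_lTensor_comm _ _ _
  have hq0 : ∀ (m : ι) (y : TensorProduct A (P.X m) N), q.lTensor (P.X m) (r • y) = 0 := by
    intro m y
    induction y using TensorProduct.induction_on with
    | zero => simp
    | add a b ha hb => rw [smul_add, map_add, ha, hb, add_zero]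
    | tmul p n =>
      rw [← TensorProduct.tmul_smul, LinearMap.lTensor_tmul,
        show q (r • n) = 0 from (Submodule.Quotient.mk_eq_zero _).2 (Submodule.smul_mem_pointwise_smul n r ⊤ trivial),
        TensorProduct.tmul_zero]
  have hwbar : π'.rTensor (QuotSMulTop r N) (q.lTensor (P.X (c.prev j)) w) = 0 := by
    refine hN'' _ ?_
    rw [← hcomp, hw, hq0]
  obtain ⟨v, hv⟩ := (hex' _).1 hwbar
  obtain ⟨v, rfl⟩ := LinearMap.lTensor_surjective (P.X (c.prev (c.prev j))) (g := q) (Submodule.mkQ_surjective _) v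
  have h2 : q.lTensor (P.X (c.prev j)) (w - FlatCx.dT P (c.prev (c.prev j)) (c.prev j) N v) = 0 := by
    rw [map_sub, hcomp, hv, sub_self]
  let m : N →ₗ[A] N := LinearMap.lsmul A N r
  have hex2 : Function.Exact (m.lTensor (P.X (c.prev j))) (q.lTensor (P.X (c.prev j))) := by
    refine lTensor_exact (P.X (c.prev j)) ?_ (Submodule.mkQ_surjective _)
    intro n
    show Submodule.Quotient.mk n = 0 ↔ _
    rw [Submodule.Quotient.mk_eq_zero]
    constructor
    · intro hn
      obtain ⟨n', -, hn'⟩ := hn
      exact ⟨n', hn'⟩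
    · rintro ⟨n', rfl⟩
      exact Submodule.smul_mem_pointwise_smul n' r ⊤ trivial
  obtain ⟨u, hu⟩ := (hex2 _).1 h2
  have hmu : ∀ (l : ι) (y : TensorProduct A (P.X l) N), m.lTensor (P.X l) y = r • y := by
    intro l y
    induction y using TensorProduct.induction_on with
    | zero => simp
    | add a b ha hb => rw [map_add, ha, hb, smul_add]
    | tmul p n => rw [LinearMap.lTensor_tmul, ← TensorProduct.tmul_smul]; rfl
  rw [hmu] at hu
  have h3 : FlatCx.dT P (c.prev j) j N (r • u) = r • z := by
    rw [hu, map_sub, hw, ← LinearMap.comp_apply (FlatCx.dT P (c.prev j) j N), ← LinearMap.rTensor_comp,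
      FlatCx.d_comp_d_hom, LinearMap.rTensor_zero, LinearMap.zero_apply, sub_zero]
  rw [map_smul] at h3
  have hinj : Function.Injective (m.lTensor (P.X j)) :=
    Module.Flat.lTensor_preserves_injective_linearMap m hr
  exact (hex _).2 ⟨u, hinj (by rw [hmu, hmu]; exact h3)⟩

/-- **Depth vanishing**: a weakly regular sequence in the support point kills the low functors. -/
theorem injective_of_isWeaklyRegular [IsJacobsonRing A] (L : CochainComplex (ModuleCat.{u} A) ℤ)
    [∀ i, Module.Flat A (L.X i)] (hfin : ∀ i, Module.Finite A (L.X i)) (p : Ideal A)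
    (hneg : ∀ (i : ℤ), i < 0 → ∀ N : ModuleCat.{u} A, IsZero ((CohIII.TFun L i).obj N))
    (hdr : ∀ (q : Ideal A) (hq : q.IsMaximal) (i : ℕ), q ≠ p → CohIII.dRank L (i : ℤ) ⟨q, hq.isPrime⟩ = 0)
    (rs : List A) : (∀ r ∈ rs, r ∈ p) → ∀ (N : Type u) [AddCommGroup N] [Module A N],
      RingTheory.Sequence.IsWeaklyRegular N rs →
      ∀ i : ℤ, i < rs.length → Function.Injective ((FlatCx.dBar L i).rTensor N) := by
  induction rs with
  | nil =>
    intro _ N _ _ _ i hi
    exact (FlatCx.isZero_T_iff L i (ModuleCat.of A N)).1 (hneg i (by simpa using hi) _)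
  | cons r rs ih =>
    intro hmem N _ _ hreg i hi
    rcases lt_or_ge i 0 with hi0 | hi0
    · exact (FlatCx.isZero_T_iff L i (ModuleCat.of A N)).1 (hneg i hi0 _)
    obtain ⟨iN, rfl⟩ := Int.eq_ofNat_of_zero_le hi0
    rw [RingTheory.Sequence.isWeaklyRegular_cons_iff] at hreg
    have hN' := ih (fun s hs => hmem s (List.mem_cons_of_mem _ hs)) (QuotSMulTop r N) hreg.2 ((iN : ℤ) - 1)
      (by simp at hi; omega)
    rw [injective_iff_map_eq_zero]
    intro z hz
    haveI := hfin (iN : ℤ)
    haveI := hfin ((ComplexShape.up ℤ).next (iN : ℤ))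
    let J : Ideal A := LinearMap.ker (LinearMap.toSpanSingleton A _ z)
    have hmemR : r ∈ J.radical := by
      rw [Ideal.radical_eq_jacobson]
      refine Ideal.mem_sInf.2 fun {q} hq' => ?_
      obtain ⟨hle, hq⟩ := hq'
      by_contra hrq
      obtain ⟨s, hsq, hsz⟩ := exists_smul_eq_zero L (iN : ℤ) q
        (hdr q hq iN fun h => hrq (h ▸ hmem r List.mem_cons_self)) N z hz
      exact hsq (hle hsz)
    obtain ⟨n, hn⟩ := hmemR
    replace hn : r ^ n • z = 0 := hn
    induction n with
    | zero => simpa using hn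
    | succ n ihn =>
      refine ihn (injective_step L (i := (iN : ℤ) - 1) (j := (iN : ℤ)) (by simp) (by simp) N r hreg.1 hN' _ ?_ ?_)
      · rw [map_smul, hz, smul_zero]
      · rw [← mul_smul, ← pow_succ', hn]

/-- **The homology vanishes below the depth.** -/
theorem isZero_T_self [IsJacobsonRing A] (L : CochainComplex (ModuleCat.{u} A) ℤ)
    [∀ i, Module.Flat A (L.X i)] (hfin : ∀ i, Module.Finite A (L.X i)) (p : Ideal A) [p.IsPrime]
    (hneg : ∀ (i : ℤ), i < 0 → ∀ N : ModuleCat.{u} A, IsZero ((CohIII.TFun L i).obj N))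
    (hdr : ∀ (q : Ideal A) (hq : q.IsMaximal) (i : ℕ), q ≠ p → CohIII.dRank L (i : ℤ) ⟨q, hq.isPrime⟩ = 0)
    (rs : List A) (hmem : ∀ r ∈ rs, r ∈ p)
    (hreg : RingTheory.Sequence.IsWeaklyRegular (Localization.AtPrime p) rs) (i : ℕ) (hi : i < rs.length) :
    IsZero ((CohIII.TFun L (i : ℤ)).obj (ModuleCat.of A A)) := by
  rw [FlatCx.isZero_T_iff, injective_iff_map_eq_zero]
  intro z hz
  set δ := FlatCx.dBar L (i : ℤ)
  let R := Localization.AtPrime p
  let J : Ideal A := LinearMap.ker (LinearMap.toSpanSingleton A _ z)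
  suffices J = ⊤ by simpa [J] using (show (1 : A) ∈ J from this ▸ trivial)
  by_contra hJ
  obtain ⟨q, hq, hle⟩ := Ideal.exists_le_maximal J hJ
  obtain ⟨s, hs, hsz⟩ : ∃ s, s ∉ q ∧ s • z = 0 := by
    by_cases hqp : q = p
    · subst hqp
      have hinj := injective_of_isWeaklyRegular L hfin q hneg hdr rs hmem R hreg (i : ℤ) (by exact_mod_cast hi)
      have h1 : (Algebra.linearMap A R).lTensor _ z = 0 := by
        refine hinj ?_
        rw [map_zero, ← FlatCx.rTensor_lTensor_comm]
        exact (congrArg _ hz).trans (map_zero _)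
      have h2 : TensorProduct.mk A R (FlatCx.cokIn L (i : ℤ)) 1 (TensorProduct.rid A _ z) = 0 := by
        rw [← (TensorProduct.comm A R _).map_eq_zero_iff, ← h1]
        clear h1 hz hle hJ
        induction z using TensorProduct.induction_on with
        | zero => simp
        | add a b ha hb => rw [map_add, map_add, map_add, ha, hb, map_add]
        | tmul x a =>
          rw [TensorProduct.rid_tmul, TensorProduct.mk_apply, TensorProduct.comm_tmul,
            TensorProduct.smul_tmul, LinearMap.lTensor_tmul]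
          simp [Algebra.smul_def]
      obtain ⟨s, hs⟩ := (IsLocalizedModule.eq_zero_iff q.primeCompl _).1 h2
      refine ⟨s.1, s.2, (TensorProduct.rid A _).injective ?_⟩
      rw [map_smul, map_zero]
      exact hs
    · haveI := hfin (i : ℤ)
      haveI := hfin ((ComplexShape.up ℤ).next (i : ℤ))
      exact exists_smul_eq_zero L (i : ℤ) q (hdr q hq i hqp) A z hz
  exact hs (hle hsz)

end GrothLib.DepthVanish
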